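/-
Extensions of an extraspecial group of order 2 ^ 7 by the simple group of order 168: a complement to one of the two
elementary abelian normal subgroups of order sixteen.
-/
import Cfsg.Agent.Lib.SmallSimple.Order168Model
import Mathlib.GroupTheory.Transfer

set_option autoImplicit false
set_option maxRecDepth 20000
set_option linter.style.haveILetI false
set_option linter.unusedSectionVars false

namespace CfsgLib.HeldShape

open CfsgLib.Order168Model

/-- The data: two elementary abelian normal subgroups meeting in the central involution, the factor group, and an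
element outside the kernel witnessing a fused conjugate. -/
structure Shape (C : Type*) [Group C] where
  /-- the central involution -/
  z : C
  /-- the normal subgroup of order 128 -/
  R : Subgroup C
  /-- the first elementary abelian subgroup -/
  A : Subgroup C
  /-- the second elementary abelian subgroup -/
  B : Subgroup C
  A_normal : A.Normal
  B_normal : B.Normal
  zz : z * z = 1
  z_ne : z ≠ 1
  z_comm : ∀ x : C, x * z = z * x
  A_le : A ≤ R
  B_le : B ≤ R
  z_A : z ∈ A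
  z_B : z ∈ B
  sq_A : ∀ x ∈ A, x * x = 1
  sq_B : ∀ x ∈ B, x * x = 1
  card_A : Nat.card A = 16
  card_B : Nat.card B = 16
  card_R : Nat.card R = 128
  inf_AB : ∀ x ∈ A, x ∈ B → x = 1 ∨ x = z
  center_R : ∀ x ∈ R, (∀ y ∈ R, x * y = y * x) → x = 1 ∨ x = z
  /-- the factor group -/
  F : C →* T
  F_surj : Function.Surjective F
  F_ker : F.ker = R
  cent_A : ∀ c : C, (∀ x ∈ A, c * x = x * c) → c ∈ R
  /-- the fused element -/
  a : C
  a_mem : a ∈ A
  a_ne : a ≠ 1
  a_ne_z : a ≠ z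
  /-- the elementary abelian intersection -/
  D : Subgroup C
  /-- the witness -/
  y : C
  y_out : y ∉ R
  y_a : y * a = a * y
  y_sq : y * y = 1 ∨ y * y = a
  D_le : D ≤ R
  D_sq : ∀ d ∈ D, d * d = 1
  D_self : ∀ x ∈ R, (∀ d ∈ D, x * d = d * x) → x ∈ D
  y_D : ∀ d ∈ D, y * d * y⁻¹ * d⁻¹ = 1 ∨ y * d * y⁻¹ * d⁻¹ = a

/-- A hyperplane avoiding the involution. -/
structure Half {C : Type*} [Group C] (z : C) (A H : Subgroup C) : Prop where
  le : H ≤ A
  not_mem : z ∉ H
  or_mem : ∀ x ∈ A, x ∈ H ∨ x * z ∈ H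

theorem comm_of_sq {C : Type*} [Group C] {A : Subgroup C} (h : ∀ x ∈ A, x * x = 1) {x y : C} (hx : x ∈ A)
    (hy : y ∈ A) : x * y = y * x := by
  have hi : ∀ t ∈ A, t⁻¹ = t := fun t ht => inv_eq_of_mul_eq_one_right (h t ht)
  calc x * y = (x * y)⁻¹ := (hi _ (A.mul_mem hx hy)).symm
    _ = y * x := by rw [mul_inv_rev, hi x hx, hi y hy]

theorem exists_half {C : Type*} [Group C] [Finite C] {z : C} {A : Subgroup C} (hsq : ∀ x ∈ A, x * x = 1)
    (hz : z ∈ A) {H₁ : Subgroup C} (h1 : H₁ ≤ A) (hz1 : z ∉ H₁) : ∃ H, Half z A H ∧ H₁ ≤ H := by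
  classical
  obtain ⟨H, ⟨hle, hzH, h1H⟩, hmax⟩ :=
    (Set.toFinite {H : Subgroup C | H ≤ A ∧ z ∉ H ∧ H₁ ≤ H}).exists_maximal ⟨H₁, h1, hz1, le_rfl⟩
  refine ⟨H, ⟨hle, hzH, fun x hx => ?_⟩, h1H⟩
  by_cases hxH : x ∈ H
  · exact Or.inl hxH
  right
  let H' : Subgroup C :=
    { carrier := {w | w ∈ H ∨ w * x ∈ H ∧ w ∈ A}
      one_mem' := Or.inl H.one_mem
      mul_mem' := by
        rintro u v (hu | ⟨hu, huA⟩) (hv | ⟨hv, hvA⟩)
        · exact Or.inl (H.mul_mem hu hv)
        · exact Or.inr ⟨by rw [mul_assoc]; exact H.mul_mem hu hv, A.mul_mem (hle hu) hvA⟩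
        · refine Or.inr ⟨?_, A.mul_mem huA (hle hv)⟩
          rw [mul_assoc, comm_of_sq hsq (hle hv) hx, ← mul_assoc]
          exact H.mul_mem hu hv
        · left
          have e : u * v = u * x * (v * x) := by
            rw [mul_assoc u x, ← mul_assoc x v x, comm_of_sq hsq hx hvA, mul_assoc v x x, hsq x hx, mul_one]
          rw [e]; exact H.mul_mem hu hv
      inv_mem' := by
        rintro u (hu | ⟨hu, huA⟩)
        · exact Or.inl (H.inv_mem hu)
        · rw [inv_eq_of_mul_eq_one_right (hsq u huA)]; exact Or.inr ⟨hu, huA⟩ }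
  have hxH' : x ∈ H' := Or.inr ⟨by rw [hsq x hx]; exact H.one_mem, hx⟩
  have hnot : ¬ (H' ≤ A ∧ z ∉ H' ∧ H₁ ≤ H') := fun h => hxH (hmax h (fun w hw => Or.inl hw) hxH')
  have hzH' : z ∈ H' := by
    by_contra hzn
    refine hnot ⟨?_, hzn, fun w hw => Or.inl (h1H hw)⟩
    rintro w (hw | ⟨-, hw⟩)
    exacts [hle hw, hw]
  rcases hzH' with h | ⟨h, -⟩
  · exact absurd h hzH
  · rwa [comm_of_sq hsq hz hx] at h

theorem Half.card {C : Type*} [Group C] [Finite C] {z : C} {A H : Subgroup C} (h : Half z A H) (hz : z ∈ A)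
    (hzz : z * z = 1) {n : ℕ} (hA : Nat.card A = 2 * n) : Nat.card H = n := by
  have hr : (H.subgroupOf A).index = 2 := by
    refine Subgroup.index_eq_two_iff.mpr ⟨⟨z, hz⟩, fun b => ?_⟩
    rcases h.or_mem _ b.2 with hb | hb
    · refine Or.inr ⟨hb, fun hbz => h.not_mem ?_⟩
      have : (b : C) * z ∈ H := hbz
      simpa using H.mul_mem (H.inv_mem hb) this
    · refine Or.inl ⟨hb, fun hb' => h.not_mem ?_⟩
      simpa using H.mul_mem (H.inv_mem hb') hb
  have hm := (H.subgroupOf A).card_mul_index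
  rw [hr, Nat.card_congr (Subgroup.subgroupOfEquivOfLe h.le).toEquiv, hA] at hm
  omega

theorem exists_three_gens {C : Type*} [Group C] [Finite C] {H : Subgroup C} (h : Nat.card H = 8) :
    ∃ s : Fin 3 → C, (∀ i, s i ∈ H) ∧ H ≤ Subgroup.closure (Set.range s) := by
  have grow : ∀ K : Subgroup C, K ≤ H → K ≠ H → ∃ x ∈ H, 2 * Nat.card K ≤ Nat.card ↥(K ⊔ Subgroup.zpowers x) := by
    intro K hK hne
    obtain ⟨x, hx, hxK⟩ : ∃ x ∈ H, x ∉ K := SetLike.exists_of_lt (lt_of_le_of_ne hK hne)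
    refine ⟨x, hx, ?_⟩
    have hlt : K < K ⊔ Subgroup.zpowers x :=
      lt_of_le_of_ne le_sup_left fun e => hxK (by rw [e]; exact Subgroup.mem_sup_right (Subgroup.mem_zpowers x))
    obtain ⟨m, hm⟩ := Subgroup.card_dvd_of_le hlt.le
    have h1 : Nat.card K < Nat.card ↥(K ⊔ Subgroup.zpowers x) := by
      refine lt_of_le_of_ne (Subgroup.card_le_of_le hlt.le) fun e => hlt.ne ?_
      exact Subgroup.eq_of_le_of_card_ge hlt.le e.ge
    rw [hm] at h1 ⊢
    rw [mul_comm 2]
    refine Nat.mul_le_mul_left _ ?_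
    by_contra hm2
    interval_cases m <;> simp at h1
  classical
  let pick : Subgroup C → C := fun K =>
    if hh : K ≤ H ∧ K ≠ H then (grow K hh.1 hh.2).choose else 1
  have pick_mem : ∀ K, pick K ∈ H := fun K => by
    unfold pick; split
    · next hh => exact (grow K hh.1 hh.2).choose_spec.1
    · exact H.one_mem
  let next : Subgroup C → Subgroup C := fun K => K ⊔ Subgroup.zpowers (pick K)
  have next_le : ∀ K, K ≤ H → next K ≤ H := fun K hK => sup_le hK (Subgroup.zpowers_le.mpr (pick_mem K))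
  have step : ∀ K, K ≤ H → min 8 (2 * Nat.card K) ≤ Nat.card ↥(next K) := by
    intro K hK
    by_cases he : K = H
    · have := Subgroup.card_le_of_le (le_sup_left : K ≤ next K)
      show _ ≤ Nat.card ↥(K ⊔ Subgroup.zpowers (pick K))
      change Nat.card ↥K ≤ Nat.card ↥(K ⊔ Subgroup.zpowers (pick K)) at this
      have hK8 : Nat.card ↥K = 8 := by rw [he, h]
      omega
    · refine le_trans (min_le_right _ _) ?_
      show _ ≤ Nat.card ↥(K ⊔ Subgroup.zpowers (pick K))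
      unfold pick
      rw [dif_pos ⟨hK, he⟩]
      exact (grow K hK he).choose_spec.2
  set K1 := next ⊥
  set K2 := next K1
  set K3 := next K2
  have l1 : K1 ≤ H := next_le _ bot_le
  have l2 := next_le _ l1
  have l3 : K3 ≤ H := next_le _ l2
  have s1 := step ⊥ bot_le
  have s2 := step K1 l1
  have s3 : min 8 (2 * Nat.card K2) ≤ Nat.card K3 := step K2 l2
  rw [Subgroup.card_bot] at s1
  have e : K3 = H := Subgroup.eq_of_le_of_card_ge l3 (by
    change min 8 (2 * 1) ≤ Nat.card K1 at s1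
    change min 8 (2 * Nat.card K1) ≤ Nat.card K2 at s2
    omega)
  refine ⟨![pick ⊥, pick K1, pick K2], fun i => by fin_cases i <;> exact pick_mem _, ?_⟩
  rw [← e]
  have hm : ∀ i : Fin 3, (![pick ⊥, pick K1, pick K2] i) ∈ Subgroup.closure (Set.range ![pick ⊥, pick K1, pick K2]) :=
    fun i => Subgroup.subset_closure ⟨i, rfl⟩
  exact sup_le (sup_le (sup_le bot_le (Subgroup.zpowers_le.mpr (hm 0))) (Subgroup.zpowers_le.mpr (hm 1)))
    (Subgroup.zpowers_le.mpr (hm 2))

namespace Shape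

variable {C : Type*} [Group C] [Finite C] (S : Shape C)

theorem z_R : S.z ∈ S.R := S.A_le S.z_A

theorem conj_A {x : C} (hx : x ∈ S.A) (c : C) : c * x * c⁻¹ ∈ S.A := S.A_normal.conj_mem x hx c

theorem conj_B {x : C} (hx : x ∈ S.B) (c : C) : c * x * c⁻¹ ∈ S.B := S.B_normal.conj_mem x hx c

/-- The product of the two subgroups. -/
theorem exists_prod {r : C} (hr : r ∈ S.R) : ∃ a ∈ S.A, ∃ b ∈ S.B, r = a * b := by
  classical
  let μ : ↥S.A × ↥S.B → ↥S.R := fun p => ⟨(p.1 : C) * p.2, S.R.mul_mem (S.A_le p.1.2) (S.B_le p.2.2)⟩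
  suffices h : Function.Surjective μ by
    obtain ⟨⟨a, b⟩, hab⟩ := h ⟨r, hr⟩
    exact ⟨a, a.2, b, b.2, (congrArg Subtype.val hab).symm⟩
  have hker : ∀ p q, μ p = μ q → ((q.1 : C)⁻¹ * p.1 = 1 ∧ p = q) ∨ (q.1 : C)⁻¹ * p.1 = S.z := by
    rintro ⟨a, b⟩ ⟨a', b'⟩ h
    have h' : (a : C) * b = (a' : C) * b' := congrArg Subtype.val h
    have e : (a' : C)⁻¹ * a = (b' : C) * (b : C)⁻¹ := by
      rw [eq_mul_inv_iff_mul_eq, mul_assoc, h', inv_mul_cancel_left]
    rcases S.inf_AB _ (S.A.mul_mem (S.A.inv_mem a'.2) a.2) (e ▸ S.B.mul_mem b'.2 (S.B.inv_mem b.2)) with h1 | h1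
    · refine Or.inl ⟨h1, Prod.ext (Subtype.ext (inv_mul_eq_one.mp h1).symm) (Subtype.ext ?_)⟩
      rw [e, mul_inv_eq_one] at h1
      exact h1.symm
    · exact Or.inr h1
  haveI : Fintype ↥S.A := Fintype.ofFinite _
  haveI : Fintype ↥S.B := Fintype.ofFinite _
  haveI : Fintype ↥S.R := Fintype.ofFinite _
  have h2 : (Finset.univ : Finset (↥S.A × ↥S.B)).card ≤ 2 * ((Finset.univ : Finset (↥S.A × ↥S.B)).image μ).card := by
    refine Finset.card_le_mul_card_image _ 2 fun r _ => ?_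
    by_contra h
    push Not at h
    obtain ⟨p, q, w, hp, hq, hw, hpq, hpw, hqw⟩ := Finset.two_lt_card_iff.mp h
    simp only [Finset.mem_filter, Finset.mem_univ, true_and] at hp hq hw
    have h1 := (hker p q (hp.trans hq.symm)).resolve_left fun h => hpq h.2
    have h2 := (hker p w (hp.trans hw.symm)).resolve_left fun h => hpw h.2
    rcases hker q w (hq.trans hw.symm) with h3 | h3
    · exact hqw h3.2
    · have : (w.1 : C)⁻¹ * p.1 = (w.1 : C)⁻¹ * q.1 * ((q.1 : C)⁻¹ * p.1) := by group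
      rw [h2, h3, h1, S.zz] at this
      exact S.z_ne this
  rw [Finset.card_univ, Fintype.card_prod, ← Nat.card_eq_fintype_card, ← Nat.card_eq_fintype_card, S.card_A,
    S.card_B] at h2
  have h3 : ((Finset.univ : Finset (↥S.A × ↥S.B)).image μ) = Finset.univ := by
    refine Finset.eq_univ_of_card _ (le_antisymm (Finset.card_le_univ _) ?_)
    rw [← Nat.card_eq_fintype_card, S.card_R]
    omega
  intro r
  have := h3.symm ▸ Finset.mem_univ r
  obtain ⟨p, -, hp⟩ := Finset.mem_image.mp this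
  exact ⟨p, hp⟩

/-- Commutators of the two subgroups lie in the centre. -/
theorem comm_AB {a b : C} (ha : a ∈ S.A) (hb : b ∈ S.B) : b * a * b⁻¹ = a ∨ b * a * b⁻¹ = a * S.z := by
  have h1 : a⁻¹ * (b * a * b⁻¹) ∈ S.A := S.A.mul_mem (S.A.inv_mem ha) (S.conj_A ha b)
  have h2 : a⁻¹ * (b * a * b⁻¹) ∈ S.B := by
    rw [show a⁻¹ * (b * a * b⁻¹) = a⁻¹ * b * a⁻¹⁻¹ * b⁻¹ by group]
    exact S.B.mul_mem (S.conj_B hb a⁻¹) (S.B.inv_mem hb)
  rcases S.inf_AB _ h1 h2 with h | h
  · exact Or.inl (inv_mul_eq_one.mp h).symm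
  · exact Or.inr (by rw [← h]; group)

theorem conj_R_A {r x : C} (hr : r ∈ S.R) (hx : x ∈ S.A) : r * x * r⁻¹ = x ∨ r * x * r⁻¹ = x * S.z := by
  obtain ⟨a, ha, b, hb, rfl⟩ := S.exists_prod hr
  have e : a * b * x * (a * b)⁻¹ = a * (b * x * b⁻¹) * a⁻¹ := by group
  rw [e, comm_of_sq S.sq_A ha (S.conj_A hx b), mul_inv_cancel_right]
  exact S.comm_AB hx hb

theorem conj_R_B {r x : C} (hr : r ∈ S.R) (hx : x ∈ S.B) : r * x * r⁻¹ = x ∨ r * x * r⁻¹ = x * S.z := by
  obtain ⟨a, ha, b, hb, rfl⟩ := S.exists_prod hr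
  have e : a * b * x * (a * b)⁻¹ = a * (b * x * b⁻¹) * a⁻¹ := by group
  rw [e, comm_of_sq S.sq_B hb hx, mul_inv_cancel_right]
  rcases S.comm_AB ha hx with h | h
  · left
    rw [mul_inv_eq_iff_eq_mul] at h ⊢
    exact h.symm
  · right
    rw [mul_inv_eq_iff_eq_mul, mul_assoc a S.z x, ← S.z_comm x, ← mul_assoc] at h
    rw [mul_inv_eq_iff_eq_mul, mul_assoc x S.z a, ← S.z_comm a, ← mul_assoc, h, mul_assoc, S.zz, mul_one]

theorem comm_R {r s : C} (hr : r ∈ S.R) (hs : s ∈ S.R) :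
    r * s * r⁻¹ * s⁻¹ = 1 ∨ r * s * r⁻¹ * s⁻¹ = S.z := by
  obtain ⟨a, ha, b, hb, rfl⟩ := S.exists_prod hs
  have e : r * (a * b) * r⁻¹ = (r * a * r⁻¹) * (r * b * r⁻¹) := by group
  rw [e]
  have hzb : b * S.z = S.z * b := S.z_comm b
  have e1 : a * S.z * b = a * b * S.z := by rw [mul_assoc, ← hzb, ← mul_assoc]
  rcases S.conj_R_A hr ha with h1 | h1 <;> rcases S.conj_R_B hr hb with h2 | h2 <;> rw [h1, h2]
  · left; group
  · right
    rw [← mul_assoc a b, S.z_comm (a * b)]; group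
  · right
    rw [e1, S.z_comm (a * b)]; group
  · left
    rw [← mul_assoc, e1, mul_assoc (a * b), S.zz, mul_one, mul_inv_cancel]

/-! ### The two hyperplanes -/

theorem exists_halves : ∃ A0 B0, Half S.z S.A A0 ∧ Half S.z S.B B0 ∧ S.a ∈ A0 := by
  have hza : S.z ∉ Subgroup.zpowers S.a := by
    rintro ⟨k, hk⟩
    have hk2 : S.a ^ k = 1 ∨ S.a ^ k = S.a := by
      have h2 : S.a ^ (2 : ℤ) = 1 := by rw [zpow_two]; exact S.sq_A _ S.a_mem
      rcases Int.even_or_odd' k with ⟨j, rfl | rfl⟩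
      · left; rw [zpow_mul, h2, one_zpow]
      · right; rw [zpow_add, zpow_mul, h2, one_zpow, one_mul, zpow_one]
    rcases hk2 with h | h
    · exact S.z_ne (hk.symm.trans h)
    · exact S.a_ne_z (h.symm.trans hk)
  obtain ⟨A0, hA, ha⟩ := exists_half S.sq_A S.z_A (Subgroup.zpowers_le.mpr S.a_mem) hza
  obtain ⟨B0, hB, -⟩ := exists_half S.sq_B S.z_B (H₁ := ⊥) bot_le (fun h => S.z_ne (Subgroup.mem_bot.mp h))
  exact ⟨A0, B0, hA, hB, ha (Subgroup.mem_zpowers _)⟩

/-- The subgroup stabilising a hyperplane. -/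
def nrm (H : Subgroup C) : Subgroup C := Subgroup.normalizer (H : Set C)

/-- The kernel of the action on the hyperplanes is the subgroup itself; all hyperplanes are conjugate. -/
theorem halves_conj {A B H H' : Subgroup C} (hAsq : ∀ x ∈ A, x * x = 1) (hzA : S.z ∈ A) (hcard : Nat.card A = 16)
    (hAB : A = S.A ∧ B = S.B ∨ A = S.B ∧ B = S.A) (hH : Half S.z A H) (hH' : Half S.z A H') {B0 : Subgroup C}
    (hB0 : Half S.z B B0) (hB0c : Nat.card B0 = 8) : ∃ b ∈ B0, ∀ x, x ∈ H ↔ b * x * b⁻¹ ∈ H' := by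
  classical
  have hAR : A ≤ S.R := by rcases hAB with ⟨rfl, -⟩ | ⟨rfl, -⟩ <;> first | exact S.A_le | exact S.B_le
  have hBR : B ≤ S.R := by rcases hAB with ⟨-, rfl⟩ | ⟨-, rfl⟩ <;> first | exact S.A_le | exact S.B_le
  have hBsq : ∀ x ∈ B, x * x = 1 := by rcases hAB with ⟨-, rfl⟩ | ⟨-, rfl⟩ <;> first | exact S.sq_A | exact S.sq_B
  have hconj : ∀ b ∈ S.R, ∀ x ∈ A, b * x * b⁻¹ = x ∨ b * x * b⁻¹ = x * S.z := by
    intro b hb x hx
    rcases hAB with ⟨rfl, -⟩ | ⟨rfl, -⟩
    · exact S.conj_R_A hb hx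
    · exact S.conj_R_B hb hx
  have hconjA : ∀ b ∈ S.R, ∀ x, b * x * b⁻¹ ∈ A → x ∈ A := by
    intro b _ x hx
    have := (show A.Normal by rcases hAB with ⟨rfl, -⟩ | ⟨rfl, -⟩ <;> first | exact S.A_normal | exact S.B_normal)
    simpa [mul_assoc] using this.conj_mem _ hx b⁻¹
  obtain ⟨s, hs, hgen⟩ := exists_three_gens (hH.card hzA S.zz (n := 8) hcard)
  -- the parity vector of a conjugate of the hyperplane
  let par : ↥B0 → Fin 3 → Bool := fun b i => decide ((b : C) * s i * (b : C)⁻¹ ∈ H')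
  have hpar : Function.Injective par := by
    intro b c hbc
    obtain ⟨d, hd⟩ : ∃ d, d = (c : C)⁻¹ * b := ⟨_, rfl⟩
    have hdB : d ∈ B0 := hd ▸ B0.mul_mem (B0.inv_mem c.2) b.2
    have hfix : ∀ i, d * s i * d⁻¹ = s i := by
      intro i
      have hi : (((b : C) * s i * (b : C)⁻¹ ∈ H') ↔ ((c : C) * s i * (c : C)⁻¹ ∈ H')) := by
        simpa [par] using congrFun hbc i
      rcases hconj d (hBR (hB0.le hdB)) (s i) (hH.le (hs i)) with h | h
      · exact h
      · exfalso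
        have e : (b : C) * s i * (b : C)⁻¹ = (c : C) * s i * (c : C)⁻¹ * S.z := by
          have e1 : (b : C) = c * d := by rw [hd, mul_inv_cancel_left]
          rw [e1, show (c : C) * d * s i * ((c : C) * d)⁻¹ = c * (d * s i * d⁻¹) * (c : C)⁻¹ by group, h,
            mul_assoc (c : C), mul_assoc (s i), ← S.z_comm]
          group
        have hA' : (c : C) * s i * (c : C)⁻¹ ∈ A := by
          rcases hconj c (hBR (hB0.le c.2)) (s i) (hH.le (hs i)) with h' | h' <;> rw [h']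
          exacts [hH.le (hs i), A.mul_mem (hH.le (hs i)) hzA]
        rw [e] at hi
        rcases hH'.or_mem _ hA' with h' | h'
        · refine hH'.not_mem ?_
          have := H'.mul_mem (H'.inv_mem h') (hi.mpr h')
          rwa [inv_mul_cancel_left] at this
        · refine hH'.not_mem ?_
          have := H'.mul_mem (H'.inv_mem (hi.mp h')) h'
          rwa [inv_mul_cancel_left] at this
    have hcen : ∀ x ∈ H, d * x = x * d := by
      intro x hx
      refine (Subgroup.mem_centralizer_singleton_iff.mp ((hgen.trans ((Subgroup.closure_le _).mpr ?_)) hx :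
        x ∈ Subgroup.centralizer ({d} : Set C))).symm
      rintro _ ⟨i, rfl⟩
      exact Subgroup.mem_centralizer_singleton_iff.mpr (mul_inv_eq_iff_eq_mul.mp (hfix i)).symm
    have hdA : ∀ x ∈ A, d * x = x * d := by
      intro x hx
      rcases hH.or_mem x hx with h | h
      · exact hcen x h
      · have := hcen _ h
        rw [show x = x * S.z * S.z by rw [mul_assoc, S.zz, mul_one]]
        rw [← mul_assoc, this, mul_assoc (x * S.z) d, S.z_comm d, ← mul_assoc]
    have hdR : d ∈ S.R := hBR (hB0.le hdB)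
    have hdc : d = 1 ∨ d = S.z := by
      refine S.center_R d hdR fun y hy => ?_
      obtain ⟨u, hu, v, hv, rfl⟩ := S.exists_prod hy
      have hcu : d * u = u * d ∧ d * v = v * d := by
        rcases hAB with ⟨e1, e2⟩ | ⟨e1, e2⟩
        · exact ⟨hdA u (e1 ▸ hu), comm_of_sq hBsq (hB0.le hdB) (e2 ▸ hv)⟩
        · exact ⟨comm_of_sq hBsq (hB0.le hdB) (e2 ▸ hu), hdA v (e1 ▸ hv)⟩
      rw [← mul_assoc, hcu.1, mul_assoc, hcu.2, mul_assoc]
    rcases hdc with h | h
    · rw [hd, inv_mul_eq_one] at h; exact Subtype.ext h.symm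
    · exact absurd (h ▸ hdB) hB0.not_mem
  haveI : Fintype ↥B0 := Fintype.ofFinite _
  have hbij : Function.Bijective par := (Fintype.bijective_iff_injective_and_card par).mpr
    ⟨hpar, by rw [← Nat.card_eq_fintype_card, hB0c]; rfl⟩
  obtain ⟨b, hb⟩ := hbij.2 fun _ => true
  refine ⟨b, b.2, fun x => ?_⟩
  have hsi : ∀ i, (b : C) * s i * (b : C)⁻¹ ∈ H' := fun i => of_decide_eq_true (congrFun hb i)
  have hmap : H ≤ H'.comap (MulAut.conj (b : C)).toMonoidHom := hgen.trans ((Subgroup.closure_le _).mpr (by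
    rintro _ ⟨i, rfl⟩; exact hsi i))
  refine ⟨fun hx => hmap hx, fun hx => ?_⟩
  have hxA : x ∈ A := hconjA b (hBR (hB0.le b.2)) x (hH'.le hx)
  refine (hH.or_mem x hxA).resolve_right fun h => hH'.not_mem ?_
  have h2 : (b : C) * (x * S.z) * (b : C)⁻¹ ∈ H' := hmap h
  have := H'.mul_mem (H'.inv_mem hx) h2
  rwa [show ((b : C) * x * (b : C)⁻¹)⁻¹ * ((b : C) * (x * S.z) * (b : C)⁻¹) = (b : C) * S.z * (b : C)⁻¹ by group,
    S.z_comm, mul_inv_cancel_right] at this

end Shape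

end CfsgLib.HeldShape
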