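/-
The normaliser of two hyperplanes splits over the central involution, and a complement of the first subgroup.
-/
import Cfsg.Agent.Lib.HeldShape.Basic

set_option autoImplicit false
set_option maxRecDepth 20000
set_option linter.style.haveILetI false
set_option linter.unusedSectionVars false

namespace CfsgLib.HeldShape

open CfsgLib.Order168Model

/-- The words in two involutions generating a dihedral group of order eight. -/
def dw (b : Bool) (k : Fin 4) {M : Type*} [Monoid M] (u v : M) : M := (if b then u else 1) * (u * v) ^ (k : ℕ)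

theorem model_dihedral :
    Function.Injective (fun p : Bool × Fin 4 => dw p.1 p.2 (mkT 275) (mkT 275 * mkT 307)) := by
  decide +kernel

theorem model_invol : mkT 275 * mkT 275 = 1 ∧ mkT 275 ≠ 1 ∧
    (mkT 275 * mkT 307) * (mkT 275 * mkT 307) = 1 ∧ mkT 275 * mkT 307 ≠ 1 ∧
    (mkT 275 * (mkT 275 * mkT 307)) ^ 4 = 1 ∧ (mkT 275 * (mkT 275 * mkT 307)) ^ 2 ≠ 1 := by
  decide +kernel

namespace Shape

variable {C : Type*} [Group C] [Finite C] (S : Shape C)

theorem F_R {r : C} (hr : r ∈ S.R) : S.F r = 1 := by rwa [← S.F_ker, MonoidHom.mem_ker] at hr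

theorem mem_R_iff {r : C} : r ∈ S.R ↔ S.F r = 1 := by rw [← S.F_ker, MonoidHom.mem_ker]

theorem R_normal : S.R.Normal := S.F_ker ▸ inferInstance

variable {A0 B0 : Subgroup C}

/-- The normaliser of two hyperplanes. -/
def lt2 (A0 B0 : Subgroup C) : Subgroup C :=
  Subgroup.normalizer (A0 : Set C) ⊓ Subgroup.normalizer (B0 : Set C)

theorem mem_lt2 {A0 B0 : Subgroup C} {c : C} :
    c ∈ lt2 A0 B0 ↔ (∀ x, x ∈ A0 ↔ c * x * c⁻¹ ∈ A0) ∧ ∀ x, x ∈ B0 ↔ c * x * c⁻¹ ∈ B0 := by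
  rw [lt2, Subgroup.mem_inf, Subgroup.mem_normalizer_iff, Subgroup.mem_normalizer_iff]

theorem half_map {A H : Subgroup C} (hA : A.Normal) (h : Half S.z A H) (c : C) :
    Half S.z A (H.map (MulAut.conj c).toMonoidHom) := by
  refine ⟨?_, ?_, ?_⟩
  · rintro _ ⟨x, hx, rfl⟩
    exact hA.conj_mem x (h.le hx) c
  · rintro ⟨x, hx, he⟩
    refine h.not_mem ?_
    have e : c * x * c⁻¹ = S.z := he
    rw [mul_inv_eq_iff_eq_mul, ← S.z_comm] at e
    rwa [mul_left_cancel e] at hx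
  · intro x hx
    have hxc : c⁻¹ * x * c ∈ A := by simpa using hA.conj_mem x hx c⁻¹
    rcases h.or_mem _ hxc with h' | h'
    · exact Or.inl ⟨_, h', by simp [mul_assoc]⟩
    · refine Or.inr ⟨_, h', ?_⟩
      show c * (c⁻¹ * x * c * S.z) * c⁻¹ = x * S.z
      rw [mul_assoc (c⁻¹ * x), S.z_comm c]; group

theorem z_conj (x : C) : S.z * x * S.z⁻¹ = x := by rw [← S.z_comm, mul_inv_cancel_right]

theorem z_lt2 : S.z ∈ lt2 A0 B0 := by
  rw [mem_lt2]
  simp only [S.z_conj, implies_true, and_self]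

/-- Every element is adjusted into the normaliser by an element of the kernel. -/
theorem exists_lift (hA : Half S.z S.A A0) (hB : Half S.z S.B B0) (c : C) :
    ∃ r ∈ S.R, r * c ∈ lt2 A0 B0 := by
  have cA := hA.card S.z_A S.zz (n := 8) S.card_A
  have cB := hB.card S.z_B S.zz (n := 8) S.card_B
  obtain ⟨b, hb, hbA⟩ := S.halves_conj S.sq_A S.z_A S.card_A (Or.inl ⟨rfl, rfl⟩)
    (S.half_map S.A_normal hA c) hA hB cB
  obtain ⟨a, ha, haB⟩ := S.halves_conj S.sq_B S.z_B S.card_B (Or.inr ⟨rfl, rfl⟩)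
    (S.half_map S.B_normal hB (b * c)) hB hA cA
  refine ⟨a * b, S.R.mul_mem (S.A_le (hA.le ha)) (S.B_le (hB.le hb)), ?_⟩
  rw [mem_lt2]
  have hmem : ∀ (H : Subgroup C) (d x : C), d * x * d⁻¹ ∈ H.map (MulAut.conj d).toMonoidHom ↔ x ∈ H := fun H d x =>
    ⟨fun ⟨y, hy, he⟩ => by
      have e : d * y * d⁻¹ = d * x * d⁻¹ := he
      rwa [mul_left_cancel (mul_right_cancel e)] at hy, fun h => ⟨x, h, rfl⟩⟩
  refine ⟨fun x => ?_, fun x => ?_⟩
  · have hbc : x ∈ A0 ↔ b * (c * x * c⁻¹) * b⁻¹ ∈ A0 := (hmem A0 c x).symm.trans (hbA _)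
    rw [show a * b * c * x * (a * b * c)⁻¹ = a * (b * (c * x * c⁻¹) * b⁻¹) * a⁻¹ by group, hbc]
    refine ⟨fun h => ?_, fun h => ?_⟩
    · rw [comm_of_sq S.sq_A (hA.le ha) (hA.le h), mul_inv_cancel_right]; exact h
    · have h1 : b * (c * x * c⁻¹) * b⁻¹ ∈ S.A := by simpa [mul_assoc] using S.conj_A (hA.le h) a⁻¹
      rwa [comm_of_sq S.sq_A (hA.le ha) h1, mul_inv_cancel_right] at h
  · rw [← hmem B0 (b * c) x, haB, show a * b * c * x * (a * b * c)⁻¹ = a * (b * c * x * (b * c)⁻¹) * a⁻¹ by group]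

theorem lt2_R (hA : Half S.z S.A A0) (hB : Half S.z S.B B0) {r : C} (hr : r ∈ S.R) (hl : r ∈ lt2 A0 B0) :
    r = 1 ∨ r = S.z := by
  obtain ⟨h1, h2⟩ := mem_lt2.mp hl
  refine S.center_R r hr fun y hy => ?_
  have fix : ∀ {A H : Subgroup C}, Half S.z A H → (∀ x, x ∈ H ↔ r * x * r⁻¹ ∈ H) →
      (∀ x ∈ A, r * x * r⁻¹ = x ∨ r * x * r⁻¹ = x * S.z) → ∀ x ∈ A, r * x = x * r := by
    intro A H hH hn hc x hx
    have key : ∀ w ∈ H, r * w = w * r := fun w hw => by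
      rcases hc w (hH.le hw) with h | h
      · exact mul_inv_eq_iff_eq_mul.mp h
      · refine absurd ?_ hH.not_mem
        have := H.mul_mem (H.inv_mem hw) (h ▸ (hn w).mp hw)
        rwa [inv_mul_cancel_left] at this
    rcases hH.or_mem x hx with h | h
    · exact key x h
    · have e := key _ h
      rw [← mul_assoc, mul_assoc x S.z r, ← S.z_comm r, ← mul_assoc] at e
      exact mul_right_cancel e
  obtain ⟨u, hu, v, hv, rfl⟩ := S.exists_prod hy
  rw [← mul_assoc, fix hA h1 (fun x hx => S.conj_R_A hr hx) u hu, mul_assoc,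
    fix hB h2 (fun x hx => S.conj_R_B hr hx) v hv, mul_assoc]

/-- An involution of the normaliser lies over the witness. -/
theorem exists_invol (hA : Half S.z S.A A0) (hB : Half S.z S.B B0) (ha : S.a ∈ A0) :
    ∃ t ∈ lt2 A0 B0, S.F t = S.F S.y ∧ t * t = 1 := by
  obtain ⟨r0, hr0, ht⟩ := S.exists_lift hA hB S.y
  obtain ⟨t, htd⟩ : ∃ t, t = r0 * S.y := ⟨_, rfl⟩
  rw [← htd] at ht
  have hFt : S.F t = S.F S.y := by rw [htd, map_mul, S.F_R hr0, one_mul]
  obtain ⟨r, hrd⟩ : ∃ r, r = t⁻¹ * S.y := ⟨_, rfl⟩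
  have hr : r ∈ S.R := by rw [S.mem_R_iff, hrd, map_mul, map_inv, hFt, inv_mul_cancel]
  have hy : S.y = t * r := by rw [hrd, mul_inv_cancel_left]
  obtain ⟨htA, htB⟩ := mem_lt2.mp ht
  have htz : ∀ x, t * (x * S.z) * t⁻¹ = t * x * t⁻¹ * S.z := fun x => by
    rw [← mul_assoc t, mul_assoc _ S.z, ← S.z_comm, ← mul_assoc]
  have hta : t * S.a * t⁻¹ = S.a := by
    have e : t * (r * S.a * r⁻¹) * t⁻¹ = S.a := by
      rw [show t * (r * S.a * r⁻¹) * t⁻¹ = t * r * S.a * (t * r)⁻¹ by group, ← hy, S.y_a, mul_inv_cancel_right]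
    rcases S.conj_R_A hr S.a_mem with h | h
    · rwa [h] at e
    · exfalso
      rw [h, htz] at e
      have h3 : t * S.a * t⁻¹ = S.a * S.z := by
        calc t * S.a * t⁻¹ = t * S.a * t⁻¹ * S.z * S.z := by rw [mul_assoc (t * S.a * t⁻¹), S.zz, mul_one]
          _ = S.a * S.z := by rw [e]
      have h4 := (htA S.a).mp ha
      rw [h3] at h4
      have := A0.mul_mem (A0.inv_mem ha) h4
      rw [inv_mul_cancel_left] at this
      exact hA.not_mem this
  have hz1a : S.z ≠ 1 ∧ S.z ≠ S.a := ⟨S.z_ne, fun h => S.a_ne_z h.symm⟩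
  -- the witness normalises the hyperplanes modulo the fused element
  have htD : ∀ d ∈ S.D, (t * d * t⁻¹ * d⁻¹ = 1 ∨ t * d * t⁻¹ * d⁻¹ = S.a) ∧
      (r * d * r⁻¹ * d⁻¹ = 1) := by
    intro d hd
    obtain ⟨u', hu', v', hv', rfl⟩ := S.exists_prod (S.D_le hd)
    -- decomposition along the hyperplanes
    obtain ⟨u, hu, v, hv, w, hw, hdec⟩ : ∃ u ∈ A0, ∃ v ∈ B0, ∃ w, (∀ x : C, w * x = x * w) ∧
        u' * v' = u * v * w := by
      rcases hA.or_mem u' hu' with h1 | h1 <;> rcases hB.or_mem v' hv' with h2 | h2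
      · exact ⟨_, h1, _, h2, 1, fun x => by simp, by simp⟩
      · refine ⟨_, h1, _, h2, S.z, fun x => (S.z_comm x).symm, ?_⟩
        rw [mul_assoc u', mul_assoc v', S.zz, mul_one]
      · refine ⟨_, h1, _, h2, S.z, fun x => (S.z_comm x).symm, ?_⟩
        rw [mul_assoc (u' * S.z), S.z_comm v', mul_assoc u', ← mul_assoc S.z, S.zz, one_mul]
      · refine ⟨_, h1, _, h2, 1, fun x => by simp, ?_⟩
        rw [mul_one, mul_assoc u' S.z, ← mul_assoc S.z, ← S.z_comm v', mul_assoc v', S.zz, mul_one]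
    rw [hdec] at hd ⊢
    have hwr : ∀ c : C, c * (u * v * w) * c⁻¹ * (u * v * w)⁻¹ = c * (u * v) * c⁻¹ * (u * v)⁻¹ := fun c => by
      calc c * (u * v * w) * c⁻¹ * (u * v * w)⁻¹ = c * (u * v) * (w * c⁻¹) * w⁻¹ * (u * v)⁻¹ := by group
        _ = c * (u * v) * (c⁻¹ * w) * w⁻¹ * (u * v)⁻¹ := by rw [hw]
        _ = _ := by group
    have hrc := S.comm_R hr (S.D_le hd)
    have hyd := S.y_D _ hd
    rw [hwr] at hyd hrc ⊢
    rw [hwr]
    -- the commutator with the witness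
    obtain ⟨ζ, hζ, hrz⟩ : ∃ ζ, (ζ = 1 ∨ ζ = S.z) ∧ r * (u * v) * r⁻¹ * (u * v)⁻¹ = ζ := ⟨_, hrc, rfl⟩
    have hrconj : r * (u * v) * r⁻¹ = ζ * (u * v) := by rw [← hrz]; group
    have hζc : ∀ x, ζ * x = x * ζ := by
      rcases hζ with rfl | rfl
      · simp
      · exact fun x => (S.z_comm x).symm
    have hsplit : S.y * (u * v) * S.y⁻¹ * (u * v)⁻¹ = ζ * (t * (u * v) * t⁻¹ * (u * v)⁻¹) := by
      rw [hy, show t * r * (u * v) * (t * r)⁻¹ = t * (r * (u * v) * r⁻¹) * t⁻¹ by group, hrconj, ← mul_assoc,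
        ← hζc t]
      group
    have hvA : t * v * t⁻¹ * v⁻¹ ∈ S.A := by
      have hab : t * (u * v) * t⁻¹ * (u * v)⁻¹ = ζ⁻¹ * (S.y * (u * v) * S.y⁻¹ * (u * v)⁻¹) := by
        rw [hsplit, inv_mul_cancel_left]
      have e : t * v * t⁻¹ * v⁻¹ = (t * u * t⁻¹)⁻¹ * (t * (u * v) * t⁻¹ * (u * v)⁻¹) * u := by group
      rw [e, hab]
      refine S.A.mul_mem (S.A.mul_mem (S.A.inv_mem (S.conj_A (hA.le hu) t)) (S.A.mul_mem (S.A.inv_mem ?_) ?_))
        (hA.le hu)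
      · rcases hζ with rfl | rfl
        exacts [S.A.one_mem, S.z_A]
      · rcases hyd with h | h <;> rw [h]
        exacts [S.A.one_mem, S.a_mem]
    have hvB : t * v * t⁻¹ * v⁻¹ ∈ B0 := B0.mul_mem ((htB v).mp hv) (B0.inv_mem hv)
    have hv1 : t * v * t⁻¹ * v⁻¹ = 1 := (S.inf_AB _ hvA (hB.le hvB)).resolve_right fun h => hB.not_mem (h ▸ hvB)
    have hu0 : t * (u * v) * t⁻¹ * (u * v)⁻¹ ∈ A0 := by
      have e : t * (u * v) * t⁻¹ * (u * v)⁻¹ = (t * u * t⁻¹) * (t * v * t⁻¹ * v⁻¹) * u⁻¹ := by group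
      rw [e, hv1, mul_one]
      exact A0.mul_mem ((htA u).mp hu) (A0.inv_mem hu)
    have hone : ζ = 1 := by
      rcases hζ with h | h
      · exact h
      · exfalso
        have : S.z * (t * (u * v) * t⁻¹ * (u * v)⁻¹) = 1 ∨ S.z * (t * (u * v) * t⁻¹ * (u * v)⁻¹) = S.a := by
          rw [← h, ← hsplit]; exact hyd
        rcases this with e | e
        · exact hA.not_mem (by rw [eq_inv_of_mul_eq_one_left e]; exact A0.inv_mem hu0)
        · exact hA.not_mem (by rw [eq_mul_inv_of_mul_eq e]; exact A0.mul_mem ha (A0.inv_mem hu0))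
    refine ⟨?_, hrz.trans hone⟩
    rw [hsplit, hone, one_mul] at hyd
    exact hyd
  have hrD : r ∈ S.D := S.D_self r hr fun d hd => by
    rw [← mul_inv_eq_iff_eq_mul, ← mul_inv_eq_one]
    exact (htD d hd).2
  have htt : t * t = 1 ∨ t * t = S.z := by
    refine S.lt2_R hA hB ?_ ((lt2 A0 B0).mul_mem ht ht)
    rw [S.mem_R_iff, map_mul, hFt, ← map_mul]
    rcases S.y_sq with h | h <;> rw [h]
    exacts [map_one _, S.F_R (S.A_le S.a_mem)]
  refine ⟨t, ht, hFt, htt.resolve_right fun htz' => ?_⟩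
  have hcomm : ∀ x : C, x * (t * t) = t * t * x := fun x => by rw [htz', S.z_comm]
  have e : S.y * S.y = t * r * t⁻¹ * r⁻¹ * (t * t) * (r * r) := by
    rw [hy]
    calc t * r * (t * r) = t * r * t⁻¹ * ((t * t) * r) := by group
      _ = t * r * t⁻¹ * (r⁻¹ * (r * (t * t))) * r := by rw [inv_mul_cancel_left]; group
      _ = t * r * t⁻¹ * (r⁻¹ * ((t * t) * r)) * r := by rw [hcomm]
      _ = _ := by group
  rw [S.D_sq r hrD, mul_one, htz'] at e
  rcases S.y_sq with h | h <;> rcases (htD r hrD).1 with h' | h' <;> rw [h, h'] at e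
  · exact hz1a.1 (by rw [one_mul] at e; exact e.symm)
  · rw [eq_comm, ← eq_inv_mul_iff_mul_eq, mul_one, inv_eq_of_mul_eq_one_right (S.sq_A _ S.a_mem)] at e
    exact hz1a.2 e
  · exact hz1a.2 (by rw [one_mul] at e; exact e.symm)
  · exact hz1a.1 (mul_eq_left.mp e.symm)

/-- Every involution of the factor group lifts to an involution of the normaliser. -/
theorem lift_invol (hA : Half S.z S.A A0) (hB : Half S.z S.B B0) (ha : S.a ∈ A0) {v : T} (hv : v * v = 1)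
    (hv1 : v ≠ 1) : ∃ t ∈ lt2 A0 B0, S.F t = v ∧ t * t = 1 := by
  obtain ⟨t, ht, hFt, htt⟩ := S.exists_invol hA hB ha
  have h2 : (S.F S.y) ^ 2 = 1 := by rw [pow_two, ← hFt, ← map_mul, htt, map_one]
  have hne : S.F S.y ≠ 1 := fun h => S.y_out (S.mem_R_iff.mpr h)
  obtain ⟨g, hg⟩ := conj_two _ h2 hne
  obtain ⟨h, hh⟩ := conj_two v (by rw [pow_two, hv]) hv1
  obtain ⟨c, hc⟩ := S.F_surj (h⁻¹ * g)
  obtain ⟨r, hr, hl⟩ := S.exists_lift hA hB c
  refine ⟨(r * c) * t * (r * c)⁻¹, (lt2 A0 B0).mul_mem ((lt2 A0 B0).mul_mem hl ht) ((lt2 A0 B0).inv_mem hl), ?_, ?_⟩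
  · rw [map_mul, map_mul, map_inv, map_mul, S.F_R hr, one_mul, hc, hFt,
      show h⁻¹ * g * S.F S.y * (h⁻¹ * g)⁻¹ = h⁻¹ * (g * S.F S.y * g⁻¹) * h by group, hg, ← hh]
    group
  · rw [show r * c * t * (r * c)⁻¹ * (r * c * t * (r * c)⁻¹) = r * c * (t * t) * (r * c)⁻¹ by group, htt]
    group

theorem dw_mul_left {u v : C} (hu : u * u = 1) (hv : v * v = 1) (h4 : (u * v) ^ 4 = 1) (p : Bool × Fin 4) :
    (∃ q : Bool × Fin 4, u * dw p.1 p.2 u v = dw q.1 q.2 u v) ∧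
      ∃ q : Bool × Fin 4, v * dw p.1 p.2 u v = dw q.1 q.2 u v := by
  obtain ⟨b, k⟩ := p
  have hvu : v * u = (u * v) ^ 3 := by
    have e : v * u = (u * v)⁻¹ := by
      rw [mul_inv_rev, inv_eq_of_mul_eq_one_right hu, inv_eq_of_mul_eq_one_right hv]
    rw [e]; exact inv_eq_of_mul_eq_one_right (by rw [← pow_succ']; exact h4)
  have red : ∀ n : ℕ, (u * v) ^ n = (u * v) ^ ((⟨n % 4, Nat.mod_lt _ (by norm_num)⟩ : Fin 4) : ℕ) := fun n => by
    conv_lhs => rw [← Nat.div_add_mod n 4, pow_add, pow_mul, h4, one_pow, one_mul]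
  refine ⟨⟨(!b, k), ?_⟩, ?_⟩
  · cases b
    · show u * (1 * _) = u * _; rw [one_mul]
    · show u * (u * _) = 1 * _; rw [← mul_assoc, hu]
  · cases b
    · refine ⟨(true, ⟨((k : ℕ) + 1) % 4, Nat.mod_lt _ (by norm_num)⟩), ?_⟩
      show v * (1 * _) = u * _
      rw [one_mul, ← red, pow_succ', ← mul_assoc u, ← mul_assoc u u v, hu, one_mul]
    · refine ⟨(false, ⟨(3 + (k : ℕ)) % 4, Nat.mod_lt _ (by norm_num)⟩), ?_⟩
      show v * (u * _) = 1 * _
      rw [one_mul, ← red, pow_add, ← hvu, mul_assoc]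

theorem card_lt2 (hA : Half S.z S.A A0) (hB : Half S.z S.B B0) : Nat.card (lt2 A0 B0) = 336 := by
  let f : ↥(lt2 A0 B0) →* T := S.F.comp (lt2 A0 B0).subtype
  have hsurj : Function.Surjective f := fun x => by
    obtain ⟨c, rfl⟩ := S.F_surj x
    obtain ⟨r, hr, hl⟩ := S.exists_lift hA hB c
    exact ⟨⟨_, hl⟩, by show S.F (r * c) = _; rw [map_mul, S.F_R hr, one_mul]⟩
  have hk : Nat.card f.ker = 2 := by
    rw [Nat.card_eq_two_iff]
    refine ⟨1, ⟨⟨S.z, S.z_lt2⟩, MonoidHom.mem_ker.mpr (S.F_R S.z_R)⟩, fun h => S.z_ne ?_, ?_⟩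
    · exact (congrArg (fun x : f.ker => ((x : ↥(lt2 A0 B0)) : C)) h).symm
    · refine Set.eq_univ_of_forall fun x => ?_
      rcases S.lt2_R hA hB (S.mem_R_iff.mpr x.2) (x : ↥(lt2 A0 B0)).2 with h | h
      · exact Or.inl (Subtype.ext (Subtype.ext h))
      · exact Or.inr (Subtype.ext (Subtype.ext h))
  have h := f.ker.card_mul_index
  rw [hk, Subgroup.index_ker, MonoidHom.range_eq_top.mpr hsurj, Subgroup.card_top, card_T] at h
  exact h.symm

theorem F_dw (u v : C) (p : Bool × Fin 4) : S.F (dw p.1 p.2 u v) = dw p.1 p.2 (S.F u) (S.F v) := by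
  obtain ⟨b, k⟩ := p
  cases b <;> simp [dw]

/-- A complement of the involution in the normaliser. -/
theorem exists_small (hA : Half S.z S.A A0) (hB : Half S.z S.B B0) (ha : S.a ∈ A0) :
    ∃ L : Subgroup C, L ≤ lt2 A0 B0 ∧ S.z ∉ L ∧ ∀ c ∈ lt2 A0 B0, c ∈ L ∨ c * S.z ∈ L := by
  classical
  obtain ⟨m1, m2, m3, m4, m5, m6⟩ := model_invol
  obtain ⟨u, hu, hFu, huu⟩ := S.lift_invol hA hB ha m1 m2
  obtain ⟨v, hv, hFv, hvv⟩ := S.lift_invol hA hB ha m3 m4
  obtain ⟨r, hr, hFr, hrr⟩ := S.lift_invol hA hB ha (v := (mkT 275 * (mkT 275 * mkT 307)) ^ 2)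
    (by rw [← pow_add]; exact m5) m6
  have huv : u * v ∈ lt2 A0 B0 := (lt2 A0 B0).mul_mem hu hv
  have h4 : (u * v) ^ 4 = 1 := by
    have hd : ((u * v) ^ 2)⁻¹ * r ∈ S.R := by
      rw [S.mem_R_iff, map_mul, map_inv, map_pow, map_mul, hFu, hFv, hFr, inv_mul_cancel]
    have e : r = (u * v) ^ 2 * (((u * v) ^ 2)⁻¹ * r) := by rw [mul_inv_cancel_left]
    rcases S.lt2_R hA hB hd ((lt2 A0 B0).mul_mem ((lt2 A0 B0).inv_mem ((lt2 A0 B0).pow_mem huv 2)) hr) with h | h <;>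
      rw [h] at e <;> rw [e] at hrr
    · rw [mul_one, ← pow_add] at hrr; exact hrr
    · rw [show (u * v) ^ 2 * S.z * ((u * v) ^ 2 * S.z) = (u * v) ^ 2 * (S.z * (u * v) ^ 2) * S.z by group,
        ← S.z_comm, ← mul_assoc ((u * v) ^ 2), mul_assoc _ S.z, S.zz, mul_one, ← pow_add] at hrr
      exact hrr
  -- the dihedral group
  let E : Subgroup C := Subgroup.closure {u, v}
  have hdw : ∀ p : Bool × Fin 4, dw p.1 p.2 u v ∈ E := by
    rintro ⟨b, k⟩
    refine E.mul_mem ?_ (E.pow_mem (E.mul_mem (Subgroup.subset_closure (Or.inl rfl)) (Subgroup.subset_closure (Or.inr rfl))) _)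
    cases b
    exacts [E.one_mem, Subgroup.subset_closure (Or.inl rfl)]
  have hE : ∀ x ∈ E, ∃ p : Bool × Fin 4, x = dw p.1 p.2 u v := by
    intro x hx
    induction hx using Subgroup.closure_induction_left with
    | one => exact ⟨(false, 0), by simp [dw]⟩
    | mul_left a ha' y _ ih =>
      obtain ⟨p, rfl⟩ := ih
      rcases ha' with rfl | rfl
      exacts [(dw_mul_left huu hvv h4 p).1, (dw_mul_left huu hvv h4 p).2]
    | inv_mul_cancel a ha' y _ ih =>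
      obtain ⟨p, rfl⟩ := ih
      rcases ha' with rfl | rfl
      · rw [inv_eq_of_mul_eq_one_right huu]; exact (dw_mul_left huu hvv h4 p).1
      · rw [inv_eq_of_mul_eq_one_right hvv]; exact (dw_mul_left huu hvv h4 p).2
  have hinj : Function.Injective (fun p : Bool × Fin 4 => dw p.1 p.2 u v) := fun p q h => by
    refine model_dihedral ?_
    have := congrArg S.F h
    simpa only [S.F_dw, hFu, hFv] using this
  have hEle : E ≤ lt2 A0 B0 := (Subgroup.closure_le _).mpr (by rintro x (rfl | rfl) <;> assumption)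
  have hcE : Nat.card E = 8 := by
    rw [show (8 : ℕ) = Nat.card (Bool × Fin 4) by simp]
    refine (Nat.card_eq_of_bijective (fun p => (⟨_, hdw p⟩ : ↥E)) ⟨fun p q h => hinj (congrArg Subtype.val h),
      fun x => ?_⟩).symm
    obtain ⟨p, hp⟩ := hE x x.2
    exact ⟨p, Subtype.ext hp.symm⟩
  have hzE : S.z ∉ E := fun hz => by
    obtain ⟨p, hp⟩ := hE _ hz
    have h0 : p = (false, 0) := model_dihedral (by
      have := congrArg S.F hp
      rw [S.F_R S.z_R, S.F_dw, hFu, hFv] at this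
      simpa [dw] using this.symm)
    rw [h0] at hp
    exact S.z_ne (by simpa [dw] using hp)
  -- the Sylow subgroup and its homomorphism onto the group of order two
  let W : Subgroup C :=
    { carrier := {x | x ∈ E ∨ x * S.z ∈ E}
      one_mem' := Or.inl E.one_mem
      mul_mem' := by
        rintro x y (hx | hx) (hy | hy)
        · exact Or.inl (E.mul_mem hx hy)
        · exact Or.inr (by rw [mul_assoc]; exact E.mul_mem hx hy)
        · exact Or.inr (by rw [mul_assoc, S.z_comm, ← mul_assoc]; exact E.mul_mem hx hy)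
        · left
          rw [show x * y = x * S.z * (y * S.z) by
            rw [mul_assoc x, ← mul_assoc S.z, ← S.z_comm y, mul_assoc y, S.zz, mul_one]]
          exact E.mul_mem hx hy
      inv_mem' := by
        rintro x (hx | hx)
        · exact Or.inl (E.inv_mem hx)
        · refine Or.inr ?_
          have h := E.inv_mem hx
          rwa [mul_inv_rev, inv_eq_of_mul_eq_one_right S.zz, ← S.z_comm] at h }
  have hWle : W ≤ lt2 A0 B0 := by
    rintro x (hx | hx)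
    · exact hEle hx
    · have := (lt2 A0 B0).mul_mem (hEle hx) (S.z_lt2 : S.z ∈ lt2 A0 B0)
      rwa [mul_assoc, S.zz, mul_one] at this
  have hxor : ∀ x ∈ W, (x ∈ E ↔ ¬ x * S.z ∈ E) := fun x hx =>
    ⟨fun h h' => hzE (by simpa using E.mul_mem (E.inv_mem h) h'), fun h => hx.resolve_right h⟩
  let φ : ↥(W.subgroupOf (lt2 A0 B0)) →* Multiplicative (ZMod 2) :=
    MonoidHom.mk' (fun x => if ((x : ↥(lt2 A0 B0)) : C) ∈ E then 1 else Multiplicative.ofAdd 1) (fun x y => by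
      have hx : ((x : ↥(lt2 A0 B0)) : C) ∈ W := x.2
      have hy : ((y : ↥(lt2 A0 B0)) : C) ∈ W := y.2
      simp only [Subgroup.coe_mul]
      by_cases h1 : ((x : ↥(lt2 A0 B0)) : C) ∈ E <;> by_cases h2 : ((y : ↥(lt2 A0 B0)) : C) ∈ E
      · simp [h1, h2, E.mul_mem h1 h2]
      · simp [h1, h2, (E.mul_mem_cancel_left h1).not.mpr h2]
      · simp [h1, h2, (E.mul_mem_cancel_right h2).not.mpr h1]
      · have h1' := hx.resolve_left h1
        have h2' := hy.resolve_left h2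
        have : ((x : ↥(lt2 A0 B0)) : C) * ((y : ↥(lt2 A0 B0)) : C) ∈ E := by
          have := E.mul_mem h1' h2'
          rwa [mul_assoc, ← mul_assoc S.z, ← S.z_comm, mul_assoc, S.zz, mul_one] at this
        simp [h1, h2, this, ← ofAdd_add]
        decide)
  have hzW : S.z ∈ W := Or.inr (by rw [S.zz]; exact E.one_mem)
  have hφz : φ ⟨⟨S.z, hWle hzW⟩, hzW⟩ = Multiplicative.ofAdd 1 := if_neg hzE
  have hcW : Nat.card (W.subgroupOf (lt2 A0 B0)) = 16 := by
    rw [Nat.card_congr (Subgroup.subgroupOfEquivOfLe hWle).toEquiv]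
    have hle : E ≤ W := fun x hx => Or.inl hx
    have h2 : (E.subgroupOf W).index = 2 := by
      refine Subgroup.index_eq_two_iff.mpr ⟨⟨S.z, hzW⟩, fun b => ?_⟩
      show Xor' ((b : C) * S.z ∈ E) ((b : C) ∈ E)
      rcases b.2 with hb | hb
      · exact Or.inr ⟨hb, (hxor _ b.2).mp hb⟩
      · exact Or.inl ⟨hb, fun h => (hxor _ b.2).mp h hb⟩
    rw [← (E.subgroupOf W).card_mul_index, h2, Nat.card_congr (Subgroup.subgroupOfEquivOfLe hle).toEquiv, hcE]
  have hidx : (W.subgroupOf (lt2 A0 B0)).index = 21 := by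
    have h := (W.subgroupOf (lt2 A0 B0)).card_mul_index
    rw [hcW, S.card_lt2 hA hB] at h
    omega
  let τ := φ.transfer
  have hcent : ∀ k : ℕ, ∀ g₀ : ↥(lt2 A0 B0), g₀⁻¹ * (⟨S.z, hWle hzW⟩ : ↥(lt2 A0 B0)) ^ k * g₀ =
      (⟨S.z, hWle hzW⟩ : ↥(lt2 A0 B0)) ^ k := fun k g₀ => by
    have hc : Commute (g₀ : ↥(lt2 A0 B0)) (⟨S.z, hWle hzW⟩ : ↥(lt2 A0 B0)) := Subtype.ext (S.z_comm (g₀ : C))
    rw [mul_assoc, ← (hc.pow_right k).eq, inv_mul_cancel_left]
  have hτz : τ ⟨S.z, hWle hzW⟩ = Multiplicative.ofAdd 1 := by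
    show φ.transfer _ = _
    rw [MonoidHom.transfer_eq_pow φ _ fun k g₀ _ => hcent k g₀]
    generalize hgen : (⟨_, _⟩ : ↥(W.subgroupOf (lt2 A0 B0))) = w
    have hw : w = (⟨⟨S.z, hWle hzW⟩, hzW⟩ : ↥(W.subgroupOf (lt2 A0 B0))) ^ 21 := by
      rw [← hgen]
      apply Subtype.ext
      rw [SubgroupClass.coe_pow]
      show (⟨S.z, hWle hzW⟩ : ↥(lt2 A0 B0)) ^ _ = _
      rw [hidx]
    rw [hw, map_pow, hφz]
    decide
  refine ⟨τ.ker.map (lt2 A0 B0).subtype, Subgroup.map_subtype_le _, ?_, fun c hc => ?_⟩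
  · rintro ⟨x, hx, hxz⟩
    have hx' : x = ⟨S.z, hWle hzW⟩ := Subtype.ext hxz
    rw [hx', SetLike.mem_coe, MonoidHom.mem_ker, hτz] at hx
    exact absurd hx (by decide)
  · rcases (show ∀ t : Multiplicative (ZMod 2), t = 1 ∨ t * Multiplicative.ofAdd 1 = 1 by decide) (τ ⟨c, hc⟩) with
      h | h
    · exact Or.inl ⟨⟨c, hc⟩, h, rfl⟩
    · refine Or.inr ⟨⟨c, hc⟩ * ⟨S.z, hWle hzW⟩, ?_, rfl⟩
      rw [SetLike.mem_coe, MonoidHom.mem_ker, map_mul, hτz]
      exact h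

/-- A complement of the first elementary abelian subgroup. -/
theorem exists_complement : ∃ K : Subgroup C, (∀ x ∈ S.A, x ∈ K → x = 1) ∧
    (∀ c : C, ∃ x ∈ S.A, x⁻¹ * c ∈ K) ∧ ∀ k ∈ K, (∀ x ∈ S.A, k * x = x * k) → k = 1 := by
  obtain ⟨A0, B0, hA, hB, ha⟩ := S.exists_halves
  obtain ⟨L, hL, hzL, hLor⟩ := S.exists_small hA hB ha
  have hnorm : L ≤ Subgroup.normalizer (B0 : Set C) := hL.trans inf_le_right
  let K : Subgroup C :=
    { carrier := {c | ∃ b ∈ B0, ∃ l ∈ L, c = b * l}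
      one_mem' := ⟨1, B0.one_mem, 1, L.one_mem, by simp⟩
      mul_mem' := by
        rintro _ _ ⟨b, hb, l, hl, rfl⟩ ⟨b', hb', l', hl', rfl⟩
        exact ⟨b * (l * b' * l⁻¹), B0.mul_mem hb ((Subgroup.mem_normalizer_iff.mp (hnorm hl) b').mp hb'), l * l',
          L.mul_mem hl hl', by group⟩
      inv_mem' := by
        rintro _ ⟨b, hb, l, hl, rfl⟩
        exact ⟨l⁻¹ * b⁻¹ * l⁻¹⁻¹,
          (Subgroup.mem_normalizer_iff.mp (hnorm (L.inv_mem hl)) b⁻¹).mp (B0.inv_mem hb), l⁻¹, L.inv_mem hl,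
          by group⟩ }
  have hLR : ∀ l ∈ L, l ∈ S.R → l = 1 := fun l hl hlR =>
    (S.lt2_R hA hB hlR (hL hl)).resolve_right fun h => hzL (h ▸ hl)
  refine ⟨K, ?_, fun c => ?_, ?_⟩
  · rintro x hx ⟨b, hb, l, hl, rfl⟩
    have hlR : l ∈ S.R := by simpa using S.R.mul_mem (S.R.inv_mem (S.B_le (hB.le hb))) (S.A_le hx)
    rw [hLR l hl hlR, mul_one] at hx ⊢
    exact (S.inf_AB b hx (hB.le hb)).resolve_right fun h => hB.not_mem (h ▸ hb)
  · obtain ⟨r, hr, hrc⟩ := S.exists_lift hA hB c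
    obtain ⟨l, hl, hlc⟩ : ∃ l ∈ L, c * l⁻¹ ∈ S.R := by
      rcases hLor _ hrc with h | h
      · exact ⟨_, h, by rw [S.mem_R_iff, map_mul, map_inv, map_mul, S.F_R hr, one_mul, mul_inv_cancel]⟩
      · exact ⟨_, h, by rw [S.mem_R_iff, map_mul, map_inv, map_mul, map_mul, S.F_R hr, S.F_R S.z_R, one_mul, mul_one,
          mul_inv_cancel]⟩
    obtain ⟨x, hx, b, hb, he⟩ := S.exists_prod hlc
    rcases hB.or_mem b hb with h | h
    · exact ⟨x, hx, b, h, l, hl, by rw [show c = c * l⁻¹ * l by group, he]; group⟩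
    · refine ⟨x * S.z, S.A.mul_mem hx S.z_A, b * S.z, h, l, hl, ?_⟩
      rw [show c = c * l⁻¹ * l by group, he, mul_inv_rev, inv_eq_of_mul_eq_one_right S.zz]
      calc S.z * x⁻¹ * (x * b * l) = S.z * b * l := by group
        _ = b * S.z * l := by rw [S.z_comm]
  · rintro k ⟨b, hb, l, hl, rfl⟩ hcom
    have hkR := S.cent_A _ hcom
    have hlR : l ∈ S.R := by simpa using S.R.mul_mem (S.R.inv_mem (S.B_le (hB.le hb))) hkR
    rw [hLR l hl hlR, mul_one] at hcom ⊢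
    refine (S.center_R b (S.B_le (hB.le hb)) fun y hy => ?_).resolve_right fun h => hB.not_mem (h ▸ hb)
    obtain ⟨u, hu, v, hv, rfl⟩ := S.exists_prod hy
    rw [← mul_assoc, hcom u hu, mul_assoc, comm_of_sq S.sq_B (hB.le hb) hv, mul_assoc]

end Shape

end CfsgLib.HeldShape
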