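/-
The affine action of an extension: it is the centraliser of a transvection in SL(5, 2).
-/
import Cfsg.Agent.Lib.HeldShape.Complement
import Cfsg.Agent.Lib.HeldRecog.Model
import Mathlib.LinearAlgebra.Matrix.ToLin
import Mathlib.Algebra.Module.ZMod

set_option autoImplicit false
set_option maxRecDepth 20000
set_option linter.style.haveILetI false
set_option linter.unusedSectionVars false

namespace CfsgLib.HeldShape

local notation "V4" => Fin 4 → ZMod 2
local notation "V5" => Fin 5 → ZMod 2
local notation "SL5" => Matrix.SpecialLinearGroup (Fin 5) (ZMod 2)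

/-- Powers of an involution indexed by two residues. -/
def bp {M : Type*} [Group M] (x : M) (t : ZMod 2) : M := if t = 0 then 1 else x

theorem bp_add {M : Type*} [Group M] {x : M} (h : x * x = 1) (s t : ZMod 2) : bp x (s + t) = bp x s * bp x t := by
  rcases (show ∀ r : ZMod 2, r = 0 ∨ r = 1 by decide) s with rfl | rfl <;>
    rcases (show ∀ r : ZMod 2, r = 0 ∨ r = 1 by decide) t with rfl | rfl <;>
    simp [bp, h, show (1 : ZMod 2) + 1 = 0 from by decide]

namespace Shape

variable {C : Type*} [Group C] [Finite C] (S : Shape C)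

theorem exists_coords : ∃ p : Multiplicative V4 ≃* ↥S.A, (p (Multiplicative.ofAdd (Pi.single 0 1)) : C) = S.z := by
  obtain ⟨A0, -, hA, -, -⟩ := S.exists_halves
  obtain ⟨s, hs, hgen⟩ := exists_three_gens (hA.card S.z_A S.zz (n := 8) S.card_A)
  let g : Fin 4 → ↥S.A := Fin.cons ⟨S.z, S.z_A⟩ fun i => ⟨s i, hA.le (hs i)⟩
  have hsq : ∀ i, g i * g i = 1 := fun i => Subtype.ext (S.sq_A _ (g i).2)
  have hc : ∀ x y : ↥S.A, x * y = y * x := fun x y => Subtype.ext (comm_of_sq S.sq_A x.2 y.2)
  let f : Multiplicative V4 →* ↥S.A :=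
    MonoidHom.mk' (fun v => bp (g 0) (v.toAdd 0) * bp (g 1) (v.toAdd 1) * bp (g 2) (v.toAdd 2) * bp (g 3) (v.toAdd 3))
      (fun v w => by
        have h4 : ∀ a b c d a' b' c' d' : ↥S.A, a * a' * (b * b') * (c * c') * (d * d') =
            a * b * c * d * (a' * b' * c' * d') := by
          let _ : CommGroup ↥S.A := { (inferInstance : Group ↥S.A) with mul_comm := hc }
          intro a b c d a' b' c' d'
          ac_rfl
        simp only [toAdd_mul, Pi.add_apply, bp_add (hsq _)]
        exact h4 _ _ _ _ _ _ _ _)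
  have hmem : ∀ i, g i ∈ f.range := fun i => by
    refine ⟨Multiplicative.ofAdd (Pi.single i 1), ?_⟩
    fin_cases i <;> simp [f, bp, Pi.single_apply] <;> rfl
  have hsurj : Function.Surjective f := by
    intro x
    have hle : A0 ≤ f.range.map S.A.subtype := hgen.trans ((Subgroup.closure_le _).mpr (by
      rintro _ ⟨i, rfl⟩
      exact ⟨g i.succ, hmem i.succ, by simp [g]⟩))
    rcases hA.or_mem x x.2 with h | h
    · obtain ⟨y, hy, he⟩ := hle h
      obtain ⟨v, hv⟩ := hy
      exact ⟨v, hv.trans (Subtype.ext he)⟩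
    · obtain ⟨y, hy, he⟩ := hle h
      have hm : y * g 0 ∈ f.range := f.range.mul_mem hy (hmem 0)
      obtain ⟨v, hv⟩ := hm
      refine ⟨v, hv.trans (Subtype.ext ?_)⟩
      show (y : C) * S.z = x
      rw [show (y : C) = x * S.z from he, mul_assoc, S.zz, mul_one]
  have hbij : Function.Bijective f := (Nat.bijective_iff_surjective_and_card f).mpr
    ⟨hsurj, by rw [S.card_A, Nat.card_eq_fintype_card]; rfl⟩
  refine ⟨MulEquiv.ofBijective f hbij, ?_⟩
  show ((f (Multiplicative.ofAdd (Pi.single 0 1)) : ↥S.A) : C) = S.z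
  simp [f, bp, g, Pi.single_apply]

/-- The place of the affine coordinate. -/
def ins (v : V4) (t : ZMod 2) : V5 := ![v 0, t, v 1, v 2, v 3]

/-- Forgetting the affine coordinate. -/
def del (w : V5) : V4 := ![w 0, w 2, w 3, w 4]

theorem ins_del (w : V5) : ins (del w) (w 1) = w := by
  ext i; fin_cases i <;> rfl

theorem del_ins (v : V4) (t : ZMod 2) : del (ins v t) = v ∧ ins v t 1 = t := by
  refine ⟨?_, rfl⟩
  ext i; fin_cases i <;> rfl

theorem ins_add (v v' : V4) (t t' : ZMod 2) : ins (v + v') (t + t') = ins v t + ins v' t' := by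
  ext i; fin_cases i <;> rfl

theorem del_add (w w' : V5) : del (w + w') = del w + del w' := by
  ext i; fin_cases i <;> rfl

include S

theorem card_C : Nat.card C = 21504 := by
  have h := S.F.ker.card_mul_index
  rw [Subgroup.index_ker, MonoidHom.range_eq_top.mpr S.F_surj, Subgroup.card_top, Order168Model.card_T, S.F_ker,
    S.card_R] at h
  exact h.symm

/-- The extension is the centraliser of a transvection. -/
theorem equiv (s : SL5) (hs : (s : Matrix (Fin 5) (Fin 5) (ZMod 2)) = Matrix.transvection 0 1 1) :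
    Nonempty (C ≃* Subgroup.centralizer ({s} : Set SL5)) := by
  classical
  obtain ⟨K, hKA, hKC, hKf⟩ := S.exists_complement
  obtain ⟨p, hp0⟩ := S.exists_coords
  choose τ hτA hτK using hKC
  let tv : C → V4 := fun c => Multiplicative.toAdd (p.symm ⟨τ c, hτA c⟩)
  let L : C → V4 → V4 := fun c v =>
    Multiplicative.toAdd (p.symm ⟨c * p (Multiplicative.ofAdd v) * c⁻¹, S.conj_A (p (Multiplicative.ofAdd v)).2 c⟩)
  have ptv : ∀ c, (p (Multiplicative.ofAdd (tv c)) : C) = τ c := fun c => by simp [tv]
  have pL : ∀ c v, (p (Multiplicative.ofAdd (L c v)) : C) = c * p (Multiplicative.ofAdd v) * c⁻¹ := fun c v => by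
    simp [L]
  have pinj : ∀ v w : V4, (p (Multiplicative.ofAdd v) : C) = p (Multiplicative.ofAdd w) → v = w := fun v w h =>
    Multiplicative.ofAdd.injective (p.injective (Subtype.ext h))
  have padd : ∀ v w : V4, (p (Multiplicative.ofAdd (v + w)) : C) =
      p (Multiplicative.ofAdd v) * p (Multiplicative.ofAdd w) := fun v w => by
    rw [ofAdd_add, map_mul]; rfl
  have L_add : ∀ c v w, L c (v + w) = L c v + L c w := fun c v w => pinj _ _ (by
    rw [pL, padd, padd, pL, pL]; group)
  have L_smul : ∀ c (t : ZMod 2) v, L c (t • v) = t • L c v := fun c t v => by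
    rcases (show ∀ r : ZMod 2, r = 0 ∨ r = 1 by decide) t with rfl | rfl
    · rw [zero_smul, zero_smul]
      have := L_add c 0 0
      rw [add_zero] at this
      exact left_eq_add.mp this
    · rw [one_smul, one_smul]
  have L_one : ∀ v, L 1 v = v := fun v => pinj _ _ (by rw [pL]; group)
  have L_mul : ∀ c d v, L (c * d) v = L c (L d v) := fun c d v => pinj _ _ (by rw [pL, pL, pL]; group)
  have L_z : ∀ c, L c (Pi.single 0 1) = Pi.single 0 1 := fun c => pinj _ _ (by
    rw [pL, hp0, S.z_comm, mul_inv_cancel_right])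
  have τ_unique : ∀ c x, x ∈ S.A → x⁻¹ * c ∈ K → x = τ c := fun c x hx hk => by
    have h1 : (τ c)⁻¹ * x ∈ K := by
      have := K.mul_mem (hτK c) (K.inv_mem hk)
      simpa [mul_assoc] using this
    exact (inv_mul_eq_one.mp (hKA _ (S.A.mul_mem (S.A.inv_mem (hτA c)) hx) h1)).symm
  have tv_mul : ∀ c d, tv (c * d) = tv c + L c (tv d) := fun c d => pinj _ _ (by
    rw [ptv, padd, ptv, pL, ptv]
    refine (τ_unique _ _ (S.A.mul_mem (hτA c) (S.conj_A (hτA d) c)) ?_).symm
    have h := K.mul_mem (hτK c) (hτK d)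
    have e : τ c * (c * τ d * c⁻¹) = (c * τ d * c⁻¹) * τ c := comm_of_sq S.sq_A (hτA c) (S.conj_A (hτA d) c)
    rw [e]
    have e2 : (c * τ d * c⁻¹ * τ c)⁻¹ * (c * d) = (τ c)⁻¹ * c * ((τ d)⁻¹ * d) := by group
    rw [e2]
    exact h)
  have tv_one : tv 1 = 0 := by
    have h := tv_mul 1 1
    rw [one_mul, L_one] at h
    exact left_eq_add.mp h
  let Tf : C → V5 → V5 := fun c w => ins (L c (del w) + w 1 • tv c) (w 1)
  let T : C → Module.End (ZMod 2) V5 := fun c =>
    { toFun := Tf c
      map_add' := fun w w' => by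
        simp only [Tf]
        rw [← ins_add, del_add, L_add, Pi.add_apply, add_smul]
        congr 1
        abel
      map_smul' := fun t w => by
        rcases (show ∀ r : ZMod 2, r = 0 ∨ r = 1 by decide) t with rfl | rfl
        · simp only [Tf, RingHom.id_apply, zero_smul]
          have hd : del (0 : V5) = (0 : ZMod 2) • (0 : V4) := by ext i; fin_cases i <;> simp [del]
          rw [hd, L_smul]
          ext i; fin_cases i <;> simp [ins]
        · simp [Tf] }
  have T_mul : ∀ c d, T (c * d) = T c * T d := fun c d => LinearMap.ext fun w => by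
    show Tf (c * d) w = Tf c (Tf d w)
    simp only [Tf]
    rw [(del_ins _ _).1, (del_ins _ _).2, L_add, L_smul, ← L_mul, tv_mul, smul_add]
    congr 1
    abel
  have T_one : T 1 = 1 := LinearMap.ext fun w => by
    show Tf 1 w = w
    simp only [Tf]
    rw [L_one, tv_one, smul_zero, add_zero, ins_del]
  let Mx : C →* Matrix (Fin 5) (Fin 5) (ZMod 2) :=
    { toFun := fun c => LinearMap.toMatrix' (T c)
      map_one' := by rw [T_one, LinearMap.toMatrix'_one]
      map_mul' := fun c d => by rw [T_mul, LinearMap.toMatrix'_mul] }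
  have hdet : ∀ c, (Mx c).det = 1 := fun c => by
    have h : (Mx c).det * (Mx c⁻¹).det = 1 := by
      rw [← Matrix.det_mul, ← map_mul, mul_inv_cancel, map_one, Matrix.det_one]
    exact (show ∀ a b : ZMod 2, a * b = 1 → a = 1 by decide) _ _ h
  let Φ : C →* SL5 := MonoidHom.mk' (fun c => ⟨Mx c, hdet c⟩) fun c d => Subtype.ext (map_mul Mx c d)
  have hsw : ∀ w : V5, (s : Matrix (Fin 5) (Fin 5) (ZMod 2)).mulVec w = w + w 1 • Pi.single 0 1 := by
    intro w
    rw [hs, Matrix.transvection, Matrix.add_mulVec, Matrix.one_mulVec]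
    congr 1
    ext i
    fin_cases i <;> simp [Matrix.single_mulVec, Function.update, Pi.single_apply]
  have hmem : ∀ c, Φ c ∈ Subgroup.centralizer ({s} : Set SL5) := fun c => by
    refine Subgroup.mem_centralizer_singleton_iff.mpr (Subtype.ext ?_)
    show Mx c * (s : Matrix (Fin 5) (Fin 5) (ZMod 2)) = (s : Matrix (Fin 5) (Fin 5) (ZMod 2)) * Mx c
    refine Matrix.ext_iff_mulVec.mpr fun w => ?_
    rw [← Matrix.mulVec_mulVec, ← Matrix.mulVec_mulVec, hsw, hsw]
    show (LinearMap.toMatrix' (T c)).mulVec _ = _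
    rw [LinearMap.toMatrix'_mulVec]
    show T c (w + w 1 • Pi.single 0 1) = (LinearMap.toMatrix' (T c)).mulVec w +
      ((LinearMap.toMatrix' (T c)).mulVec w) 1 • Pi.single 0 1
    rw [LinearMap.toMatrix'_mulVec, map_add, map_smul]
    congr 2
    show Tf c (Pi.single 0 1) = Pi.single 0 1
    simp only [Tf]
    have hd : del (Pi.single 0 1 : V5) = (Pi.single 0 1 : V4) := by ext i; fin_cases i <;> rfl
    rw [hd, L_z, show (Pi.single 0 1 : V5) 1 = 0 from rfl, zero_smul, add_zero]
    ext i; fin_cases i <;> rfl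
  have hinj : Function.Injective Φ := by
    rw [injective_iff_map_eq_one]
    intro c hc
    have hT : ∀ w, Tf c w = w := fun w => by
      have h1 : Mx c = 1 := congrArg Subtype.val hc
      have := congrArg (fun M : Matrix (Fin 5) (Fin 5) (ZMod 2) => M.mulVec w) h1
      simp only [Matrix.one_mulVec] at this
      rwa [show Mx c = LinearMap.toMatrix' (T c) from rfl, LinearMap.toMatrix'_mulVec] at this
    have ht0 : tv c = 0 := by
      have := congrArg del (hT (ins 0 1))
      simp only [Tf] at this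
      rw [(del_ins _ _).1, (del_ins _ _).1, (del_ins _ _).2, one_smul] at this
      have hL0 : L c 0 = 0 := by simpa using L_smul c 0 0
      rwa [hL0, zero_add] at this
    have hLid : ∀ v, L c v = v := fun v => by
      have := congrArg del (hT (ins v 0))
      simp only [Tf] at this
      rwa [(del_ins _ _).1, (del_ins _ _).1, (del_ins _ _).2, zero_smul, add_zero] at this
    have hτ1 : τ c = 1 := by rw [← ptv c, ht0, ofAdd_zero, map_one]; rfl
    have hk := hτK c
    rw [hτ1, inv_one, one_mul] at hk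
    refine hKf c hk fun x hx => ?_
    have h := pL c (Multiplicative.toAdd (p.symm ⟨x, hx⟩))
    rw [hLid] at h
    simp only [ofAdd_toAdd, MulEquiv.apply_symm_apply] at h
    exact (mul_inv_eq_iff_eq_mul.mp h.symm)
  have hcard : Nat.card (Subgroup.centralizer ({s} : Set SL5)) = 21504 := by
    have e : s = CfsgLib.HeCent.sTr :=
      Subtype.ext (hs.trans CfsgLib.HeCent.mat_transvection.symm)
    rw [e]
    exact CfsgLib.HeldRecog.card_HS
  let Ψ : C →* Subgroup.centralizer ({s} : Set SL5) := Φ.codRestrict _ hmem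
  have hΨ : Function.Injective Ψ := fun c d h => hinj (congrArg Subtype.val h)
  exact ⟨MulEquiv.ofBijective Ψ ((Nat.bijective_iff_injective_and_card Ψ).mpr ⟨hΨ, by rw [S.card_C, hcard]⟩)⟩

end Shape

end CfsgLib.HeldShape
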